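import Cfsg.Agent.Base
import Cfsg.Agent.Transfer.SylowIn
import Cfsg.Agent.PComp.Core
import Cfsg.Agent.Solv.Core
import Cfsg.Agent.Solv.CoprimeGen
import Cfsg.Agent.TwoFus.SEBasic

/-! Strongly closed 2-subgroups in "set form": a conjugation invariant set `D` of 2-elements meeting
every 2-subgroup in a subgroup (`D` = union of the conjugates of a strongly closed subgroup). -/

set_option autoImplicit false

namespace CL.Gol

open Subgroup Cfsg CL.Transfer CL.PComp
open scoped Pointwise commutatorElement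

variable {G : Type*} [Group G]

/-- `D` is the union of the conjugates of a strongly closed 2-subgroup. -/
structure SC (D : Set G) : Prop where
  one_mem : (1 : G) ∈ D
  conj : ∀ x ∈ D, ∀ g : G, g * x * g⁻¹ ∈ D
  isPGroup : ∀ x ∈ D, IsPGroup 2 (zpowers x)
  mul : ∀ P : Subgroup G, IsPGroup 2 P → ∀ x ∈ D, x ∈ P → ∀ y ∈ D, y ∈ P → x * y ∈ D

/-- The subgroup generated by the elements of `D` in `H`. -/
def gen (D : Set G) (H : Subgroup G) : Subgroup G := closure (D ∩ H)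

theorem gen_le (D : Set G) (H : Subgroup G) : gen D H ≤ H :=
  (closure_le _).2 fun _ h => h.2

theorem mem_gen {D : Set G} {H : Subgroup G} {x : G} (h1 : x ∈ D) (h2 : x ∈ H) : x ∈ gen D H :=
  subset_closure ⟨h1, h2⟩

theorem gen_le_iff {D : Set G} {H K : Subgroup G} : gen D H ≤ K ↔ ∀ x ∈ D, x ∈ H → x ∈ K :=
  (closure_le _).trans ⟨fun h _ h1 h2 => h ⟨h1, h2⟩, fun h x hx => h x hx.1 hx.2⟩

theorem gen_mono (D : Set G) {H K : Subgroup G} (h : H ≤ K) : gen D H ≤ gen D K :=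
  gen_le_iff.2 fun _ h1 h2 => mem_gen h1 (h h2)

theorem gen_top (D : Set G) : gen D ⊤ = closure D := by
  simp [gen]

theorem isPGroup_sup_of_le_normalizer {A B : Subgroup G} (hA : IsPGroup 2 A) (hB : IsPGroup 2 B)
    (h : A ≤ normalizer (B : Set G)) : IsPGroup 2 (A ⊔ B : Subgroup G) :=
  IsPGroup.to_sup_of_normal_right' hA hB h

theorem zpowers_le_centralizer_zpowers {x y : G} (h : Commute x y) :
    zpowers x ≤ centralizer (zpowers y : Set G) := by
  rintro _ ⟨m, rfl⟩ _ ⟨n, rfl⟩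
  exact (h.symm.zpow_zpow n m).eq

theorem isPGroup_sup_zpowers {x y : G} (hx : IsPGroup 2 (zpowers x)) (hy : IsPGroup 2 (zpowers y))
    (h : Commute x y) : IsPGroup 2 (zpowers x ⊔ zpowers y : Subgroup G) :=
  isPGroup_sup_of_le_normalizer hx hy
    ((zpowers_le_centralizer_zpowers h).trans (centralizer_le_normalizer _))

theorem isPGroup_zpowers_of_mem {P : Subgroup G} (hP : IsPGroup 2 P) {x : G} (hx : x ∈ P) :
    IsPGroup 2 (zpowers x) := hP.to_le ((zpowers_le).2 hx)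

theorem isPGroup_zpowers_of_ord2 {t : G} (ht : orderOf t = 2) : IsPGroup 2 (zpowers t) :=
  IsPGroup.of_card (n := 1) (by rw [Nat.card_zpowers, ht, pow_one])

theorem conj_smul_zpowers (g x : G) : MulAut.conj g • zpowers x = zpowers (g * x * g⁻¹) := by
  rw [conj_smul_eq_map, MonoidHom.map_zpowers]; rfl

theorem conj_smul_commutator (g : G) (H K : Subgroup G) :
    MulAut.conj g • ⁅H, K⁆ = ⁅MulAut.conj g • H, MulAut.conj g • K⁆ := by
  simp only [conj_smul_eq_map, map_commutator]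

theorem conj_smul_centralizer_singleton (g x : G) :
    MulAut.conj g • centralizer ({x} : Set G) = centralizer ({g * x * g⁻¹} : Set G) := by
  ext y
  rw [mem_conj_smul, mem_centralizer_singleton_iff, mem_centralizer_singleton_iff]
  constructor
  · intro h
    calc y * (g * x * g⁻¹) = g * (g⁻¹ * y * g * x) * g⁻¹ := by group
      _ = g * (x * (g⁻¹ * y * g)) * g⁻¹ := by rw [h]
      _ = _ := by group
  · intro h
    calc g⁻¹ * y * g * x = g⁻¹ * (y * (g * x * g⁻¹)) * g := by group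
      _ = g⁻¹ * (g * x * g⁻¹ * y) * g := by rw [h]
      _ = _ := by group

theorem mem_cent {x y : G} : x ∈ centralizer ({y} : Set G) ↔ Commute x y :=
  mem_centralizer_singleton_iff

theorem centralizer_zpowers (y : G) : centralizer (zpowers y : Set G) = centralizer {y} := by
  refine le_antisymm (centralizer_le (Set.singleton_subset_iff.2 (mem_zpowers y))) fun x hx => ?_
  rintro _ ⟨n, rfl⟩
  exact ((mem_cent.1 hx).symm.zpow_left n).eq

theorem mem_normalizer_of_conj [Finite G] {H : Subgroup G} {g : G}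
    (h : ∀ x ∈ H, g * x * g⁻¹ ∈ H) : g ∈ normalizer (H : Set G) :=
  mem_normalizer_of_conj_smul_le (conj_smul_le_iff.2 h)

theorem conj_mem_of_normalizer {H : Subgroup G} {g x : G} (hg : g ∈ normalizer (H : Set G))
    (hx : x ∈ H) : g * x * g⁻¹ ∈ H := (mem_normalizer_iff.1 hg x).1 hx

theorem conj_mem_of_normalizer' {H : Subgroup G} {g x : G} (hg : g ∈ normalizer (H : Set G))
    (hx : x ∈ H) : g⁻¹ * x * g ∈ H := by
  simpa using conj_mem_of_normalizer (inv_mem hg) hx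

theorem odd_iff_coprime {n : ℕ} : n.Coprime 2 ↔ Odd n := Nat.coprime_two_right

theorem coprime_of_isPGroup {A K : Subgroup G} [Finite G] (hA : IsPGroup 2 A)
    (hK : (Nat.card K).Coprime 2) : (Nat.card A).Coprime (Nat.card K) := by
  obtain ⟨n, hn⟩ := IsPGroup.iff_card.1 hA
  rw [hn]
  exact Nat.Coprime.pow_left _ hK.symm

theorem isSolvable_of_isPGroup {A : Subgroup G} [Finite G] (hA : IsPGroup 2 A) :
    Group.IsSolvable A := by
  have := hA.isNilpotent
  infer_instance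

theorem eq_one_of_mem_odd {K P : Subgroup G} [Finite G] (hK : (Nat.card K).Coprime 2)
    (hP : IsPGroup 2 P) {x : G} (h1 : x ∈ K) (h2 : x ∈ P) : x = 1 := by
  have := (Subgroup.disjoint_of_coprime_natCard (coprime_of_isPGroup hP hK))
  exact (Subgroup.disjoint_def.1 this) h2 h1

namespace SC

variable {D : Set G} (h : SC D)
include h

theorem conj' {x : G} (hx : x ∈ D) (g : G) : g⁻¹ * x * g ∈ D := by
  simpa using h.conj x hx g⁻¹

theorem conj_iff {x g : G} : g * x * g⁻¹ ∈ D ↔ x ∈ D :=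
  ⟨fun hx => by simpa [mul_assoc] using h.conj' hx g, fun hx => h.conj x hx g⟩

theorem pow_mem {x : G} (hx : x ∈ D) (n : ℕ) : x ^ n ∈ D := by
  induction n with
  | zero => simpa using h.one_mem
  | succ n ih =>
    rw [pow_succ]
    exact h.mul _ (h.isPGroup x hx) _ ih (npow_mem_zpowers x n) x hx (mem_zpowers x)

theorem inv_mem [Finite G] {x : G} (hx : x ∈ D) : x⁻¹ ∈ D := by
  have h1 : x⁻¹ = x ^ (orderOf x - 1) := by
    have := orderOf_pos x
    rw [inv_eq_iff_mul_eq_one, ← pow_succ', Nat.sub_add_cancel this, pow_orderOf_eq_one]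
  rw [h1]
  exact h.pow_mem hx _

theorem mul_of_commute {x y : G} (hx : x ∈ D) (hy : y ∈ D) (hc : Commute x y) : x * y ∈ D :=
  h.mul _ (isPGroup_sup_zpowers (h.isPGroup x hx) (h.isPGroup y hy) hc) x hx
    (mem_sup_left (mem_zpowers x)) y hy (mem_sup_right (mem_zpowers y))

theorem mem_gen_iff [Finite G] {P : Subgroup G} (hP : IsPGroup 2 P) {x : G} :
    x ∈ gen D P ↔ x ∈ D ∧ x ∈ P := by
  refine ⟨fun hx => ?_, fun hx => mem_gen hx.1 hx.2⟩
  induction hx using closure_induction with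
  | mem x hx => exact hx
  | one => exact ⟨h.one_mem, P.one_mem⟩
  | mul x y _ _ hx hy => exact ⟨h.mul P hP x hx.1 hx.2 y hy.1 hy.2, P.mul_mem hx.2 hy.2⟩
  | inv x _ hx => exact ⟨h.inv_mem hx.1, P.inv_mem hx.2⟩

theorem zpowers_subset [Finite G] {x : G} (hx : x ∈ D) : ∀ y ∈ zpowers x, y ∈ D := fun _ hy =>
  ((h.mem_gen_iff (h.isPGroup x hx)).1 ((zpowers_le.2 (mem_gen hx (mem_zpowers x))) hy)).1

theorem conj_smul_gen (g : G) (H : Subgroup G) :
    MulAut.conj g • gen D H = gen D (MulAut.conj g • H) := by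
  have key : ∀ (g : G) (H : Subgroup G), MulAut.conj g • gen D H ≤ gen D (MulAut.conj g • H) := by
    intro g H
    rw [conj_smul_eq_map, map_le_iff_le_comap, gen_le_iff]
    intro x h1 h2
    exact mem_gen (h.conj x h1 g) (conj_mem_conj_smul.2 h2)
  refine le_antisymm (key g H) ?_
  have := conj_smul_mono g (key g⁻¹ (MulAut.conj g • H))
  rwa [conj_smul_conj_inv_smul, conj_inv_smul_conj_smul] at this

theorem normalizer_le_normalizer_gen (H : Subgroup G) :
    normalizer (H : Set G) ≤ normalizer (gen D H : Set G) := fun g hg => by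
  rw [← conj_smul_eq_iff_mem_normalizer] at hg ⊢
  rw [h.conj_smul_gen, hg]

theorem le_normalizer_gen (H : Subgroup G) : H ≤ normalizer (gen D H : Set G) :=
  le_normalizer.trans (h.normalizer_le_normalizer_gen H)

theorem normal_gen (N : Subgroup G) [hN : N.Normal] : (gen D N).Normal := by
  rw [← normalizer_eq_top_iff, eq_top_iff]
  exact (normalizer_eq_top_iff.2 hN).ge.trans (h.normalizer_le_normalizer_gen N)

theorem normal_closure : (closure D).Normal := by
  rw [← gen_top]; exact h.normal_gen ⊤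

theorem isStronglyClosed [Finite G] (S : Sylow 2 G) : IsStronglyClosed (gen D S) (S : Subgroup G) :=
  ⟨gen_le _ _, fun x hx g hg =>
    mem_gen (h.conj x ((h.mem_gen_iff S.isPGroup').1 hx).1 g) hg⟩

theorem comap {H : Type*} [Group H] {f : H →* G} (hf : Function.Injective f) : SC (f ⁻¹' D) where
  one_mem := by simpa using h.one_mem
  conj x hx g := by simpa using h.conj _ hx (f g)
  isPGroup x hx := by
    have := (h.isPGroup _ hx).comap_of_injective f hf
    exact this.to_le ((zpowers_le).2 (mem_zpowers (f x)))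
  mul P hP x hx hxP y hy hyP := by
    simpa using h.mul _ (hP.map f) _ hx (mem_map_of_mem f hxP) _ hy (mem_map_of_mem f hyP)

/-- A commutator of an element of `D` with an element normalizing ... inside a 2-group. -/
theorem commutator_mem [Finite G] {P : Subgroup G} (hP : IsPGroup 2 P) {x y : G} (hx : x ∈ D)
    (hxP : x ∈ P) (hyP : y ∈ P) : x * y * x⁻¹ * y⁻¹ ∈ D := by
  have := h.mul P hP x hx hxP (y * x⁻¹ * y⁻¹) (h.conj _ (h.inv_mem hx) y)
    (mul_mem (mul_mem hyP (P.inv_mem hxP)) (P.inv_mem hyP))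
  simpa [mul_assoc] using this

/-- There is an involution of `D` central in the 2-group `P` as soon as `D ∩ P ≠ 1`. -/
theorem exists_central [Finite G] {P : Subgroup G} (hP : IsPGroup 2 P) {x : G} (hx : x ∈ D)
    (hxP : x ∈ P) (hx1 : x ≠ 1) :
    ∃ z ∈ D, z ∈ P ∧ orderOf z = 2 ∧ ∀ y ∈ P, Commute z y := by
  have := hP.isNilpotent
  have : ((gen D P).subgroupOf P).Normal :=
    normal_subgroupOf_of_le_normalizer' (h.le_normalizer_gen P)
  have hne : (gen D P).subgroupOf P ≠ ⊥ := by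
    intro hb
    have : (⟨x, hxP⟩ : P) ∈ (gen D P).subgroupOf P := mem_gen hx hxP
    rw [hb, mem_bot] at this
    exact hx1 (congrArg Subtype.val this)
  obtain ⟨⟨⟨w, hwP⟩, hw, hwc⟩, hw1⟩ :=
    (ne_bot_iff_exists_ne_one).1 (inf_center_ne_bot_of_isNilpotent _ hne)
  have hw1' : w ≠ 1 := fun e => hw1 (by ext; exact e)
  have hwD : w ∈ D := ((h.mem_gen_iff hP).1 hw).1
  obtain ⟨k, hk⟩ := IsPGroup.iff_card.1 (h.isPGroup w hwD)
  rw [Nat.card_zpowers] at hk
  have hk0 : k ≠ 0 := by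
    rintro rfl
    exact hw1' (orderOf_eq_one_iff.1 (by simpa using hk))
  refine ⟨w ^ (2 ^ (k - 1)), h.pow_mem hwD _, P.pow_mem hwP _, ?_, fun y hy => ?_⟩
  · rw [orderOf_pow' _ (by positivity), hk, Nat.gcd_eq_right (pow_dvd_pow _ (by omega))]
    obtain ⟨j, rfl⟩ := Nat.exists_eq_succ_of_ne_zero hk0
    simp [pow_succ]
  · have : Commute w y := (congrArg Subtype.val (mem_center_iff.1 hwc ⟨y, hy⟩)).symm
    exact this.pow_left _

theorem exists_ord2_zpowers [Finite G] {x : G} (hx : x ∈ D) (hx1 : x ≠ 1) :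
    ∃ z ∈ D, z ∈ zpowers x ∧ orderOf z = 2 := by
  obtain ⟨z, h1, h2, h3, -⟩ := h.exists_central (h.isPGroup x hx) hx (mem_zpowers x) hx1
  exact ⟨z, h1, h2, h3⟩

end SC

/-- Lifting along a homomorphism: elements with equal images may be conjugated (by the kernel times
powers) into a common 2-subgroup. -/
theorem exists_conj_mem_of_map_mem [Finite G] {H : Type*} [Group H] (f : G →* H) {Q : Subgroup H}
    (hQ : IsPGroup 2 Q) {P : Subgroup G} (hP : IsSylowIn 2 P (Q.comap f)) {x : G}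
    (hx : IsPGroup 2 (zpowers x)) (hxQ : f x ∈ Q) : ∃ n ∈ f.ker, n * x * n⁻¹ ∈ P := by
  have hle : zpowers x ≤ Q.comap f := zpowers_le.2 hxQ
  obtain ⟨y, hy, hyx⟩ := hP.exists_conj_le hx hle
  have hker : f.ker ≤ Q.comap f := fun z hz => by
    rw [mem_comap, (MonoidHom.mem_ker).1 hz]; exact Q.one_mem
  have hmap : P.map f = (Q.comap f).map f :=
    ((hP.map f).eq_of_le (hQ.to_le (map_comap_le f Q)) (map_mono hP.le) le_rfl).symm
  obtain ⟨s, hs, hsy⟩ : f y ∈ P.map f := hmap ▸ mem_map_of_mem f hy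
  refine ⟨s⁻¹ * y, by simp [MonoidHom.mem_ker, hsy], ?_⟩
  have := conj_smul_le_iff.1 hyx x (mem_zpowers x)
  have e : s⁻¹ * y * x * (s⁻¹ * y)⁻¹ = s⁻¹ * (y * x * y⁻¹) * s := by group
  rw [e]
  exact mul_mem (mul_mem (inv_mem hs) this) hs

theorem SC.map [Finite G] {D : Set G} (h : SC D) {H : Type*} [Group H] {f : G →* H}
    (hf : Function.Surjective f) : SC (f '' D) where
  one_mem := ⟨1, h.one_mem, map_one f⟩
  conj := by
    rintro _ ⟨x, hx, rfl⟩ g
    obtain ⟨g, rfl⟩ := hf g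
    exact ⟨g * x * g⁻¹, h.conj x hx g, by simp⟩
  isPGroup := by
    rintro _ ⟨x, hx, rfl⟩
    rw [← MonoidHom.map_zpowers]
    exact (h.isPGroup x hx).map f
  mul := by
    rintro Q hQ _ ⟨x, hx, rfl⟩ hxQ _ ⟨y, hy, rfl⟩ hyQ
    obtain ⟨P, hP⟩ := exists_isSylowIn (p := 2) (Q.comap f)
    obtain ⟨n, hn, hnx⟩ := exists_conj_mem_of_map_mem f hQ hP (h.isPGroup x hx) hxQ
    obtain ⟨m, hm, hmy⟩ := exists_conj_mem_of_map_mem f hQ hP (h.isPGroup y hy) hyQ
    refine ⟨_, h.mul P hP.isPGroup _ (h.conj x hx n) hnx _ (h.conj y hy m) hmy, ?_⟩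
    simp [(MonoidHom.mem_ker).1 hn, (MonoidHom.mem_ker).1 hm]

theorem map_subtype_closure_preimage (D : Set G) (H : Subgroup G) :
    (closure (H.subtype ⁻¹' D)).map H.subtype = gen D H := by
  rw [MonoidHom.map_closure, gen]
  congr 1
  ext x
  constructor
  · rintro ⟨y, hy, rfl⟩
    exact ⟨hy, y.2⟩
  · rintro ⟨h1, h2⟩
    exact ⟨⟨x, h2⟩, h1, rfl⟩

/-- The union of the conjugates of a subgroup. -/
def conjSet (T : Subgroup G) : Set G := {x | ∃ g : G, g * x * g⁻¹ ∈ T}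

theorem mem_conjSet_of_mem {T : Subgroup G} {x : G} (hx : x ∈ T) : x ∈ conjSet T :=
  ⟨1, by simpa using hx⟩

theorem mem_of_mem_conjSet {S T : Subgroup G} (hT : IsStronglyClosed T S) {x : G}
    (hx : x ∈ conjSet T) (hS : x ∈ S) : x ∈ T := by
  obtain ⟨g, hg⟩ := hx
  have := hT.2 _ hg g⁻¹ (by simpa [mul_assoc] using hS)
  simpa [mul_assoc] using this

theorem sc_conjSet [Finite G] (S : Sylow 2 G) {T : Subgroup G}
    (hT : IsStronglyClosed T (S : Subgroup G)) : SC (conjSet T) where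
  one_mem := mem_conjSet_of_mem T.one_mem
  conj := by
    rintro x ⟨g, hg⟩ k
    exact ⟨g * k⁻¹, by simpa [mul_assoc] using hg⟩
  isPGroup := by
    rintro x ⟨g, hg⟩
    have := isPGroup_conj_smul (isPGroup_zpowers_of_mem S.isPGroup' (hT.1 hg)) g⁻¹
    rwa [conj_smul_zpowers, show g⁻¹ * (g * x * g⁻¹) * g⁻¹⁻¹ = x by group] at this
  mul := by
    rintro P hP x ⟨g, hg⟩ hxP y ⟨k, hk⟩ hyP
    obtain ⟨c, hc⟩ := exists_conj_le_sylow S hP
    have h1 : c * x * c⁻¹ ∈ T :=
      mem_of_mem_conjSet hT ⟨g * c⁻¹, by simpa [mul_assoc] using hg⟩ (conj_smul_le_iff.1 hc x hxP)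
    have h2 : c * y * c⁻¹ ∈ T :=
      mem_of_mem_conjSet hT ⟨k * c⁻¹, by simpa [mul_assoc] using hk⟩ (conj_smul_le_iff.1 hc y hyP)
    exact ⟨c, by simpa [mul_assoc] using T.mul_mem h1 h2⟩

theorem closure_conjSet (T : Subgroup G) : closure (conjSet T) = normalClosure (T : Set G) := by
  refine le_antisymm ((closure_le _).2 ?_) ?_
  · rintro x ⟨g, hg⟩
    have := (normalClosure_normal (s := (T : Set G))).conj_mem _ (subset_normalClosure hg) g⁻¹
    simpa [mul_assoc] using this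
  · refine (closure_le _).2 fun x hx => subset_closure ?_
    obtain ⟨a, ha, hax⟩ := Group.mem_conjugatesOfSet_iff.1 hx
    obtain ⟨c, rfl⟩ := isConj_iff.1 hax
    exact ⟨c⁻¹, by simpa [mul_assoc] using ha⟩

theorem gen_conjSet [Finite G] (S : Sylow 2 G) {T : Subgroup G}
    (hT : IsStronglyClosed T (S : Subgroup G)) : gen (conjSet T) S = T := by
  refine le_antisymm (gen_le_iff.2 fun x h1 h2 => mem_of_mem_conjSet hT h1 h2) fun x hx => ?_
  exact mem_gen (mem_conjSet_of_mem hx) (hT.1 hx)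

theorem conjSet_disjoint [Finite G] (S : Sylow 2 G) {T U : Subgroup G}
    (hU : IsStronglyClosed U (S : Subgroup G)) (hT : T ≤ S) (hd : T ⊓ U = ⊥) :
    ∀ x ∈ conjSet T, x ∈ conjSet U → x = 1 := by
  rintro x ⟨g, hg⟩ ⟨k, hk⟩
  have h1 : g * x * g⁻¹ ∈ U :=
    mem_of_mem_conjSet hU ⟨k * g⁻¹, by simpa [mul_assoc] using hk⟩ (hT hg)
  have : g * x * g⁻¹ ∈ T ⊓ U := ⟨hg, h1⟩
  rw [hd, mem_bot] at this
  simpa using this

/-! ### Two disjoint sets -/

section two
variable [Finite G] {D E : Set G} (hD : SC D) (hE : SC E) (hd : ∀ x ∈ D, x ∈ E → x = 1)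
include hD hE hd

theorem commute_of_isPGroup {P : Subgroup G} (hP : IsPGroup 2 P) {x y : G} (hx : x ∈ D)
    (hxP : x ∈ P) (hy : y ∈ E) (hyP : y ∈ P) : Commute x y := by
  have h1 := hD.commutator_mem hP hx hxP hyP
  have h2 := hE.inv_mem (hE.commutator_mem hP hy hyP hxP)
  have e : (y * x * y⁻¹ * x⁻¹)⁻¹ = x * y * x⁻¹ * y⁻¹ := by group
  rw [e] at h2
  have := hd _ h1 h2
  exact commutatorElement_eq_one_iff_commute.1 this

/-- (E) An element of `D` normalizing `Y` centralizes a `Y`-conjugate of any 2-subgroup of `Y`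
consisting of elements of `E`. -/
theorem exists_conj_le_centralizer {Y A : Subgroup G} {s : G} (hs : s ∈ D)
    (hsY : s ∈ normalizer (Y : Set G)) (hA : IsPGroup 2 A) (hAY : A ≤ Y) (hAE : ∀ a ∈ A, a ∈ E) :
    ∃ y ∈ Y, ∀ a ∈ A, Commute s (y * a * y⁻¹) := by
  obtain ⟨Q, hQ, hsQ⟩ := exists_isSylowIn_ge (hD.isPGroup s hs)
    (le_sup_right : zpowers s ≤ Y ⊔ zpowers s)
  have hQY : IsSylowIn 2 (Q ⊓ Y) Y :=
    hQ.inf_normal le_sup_left (sup_le le_normalizer (zpowers_le.2 hsY))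
  obtain ⟨y, hy, hyA⟩ := hQY.exists_conj_le hA hAY
  exact ⟨y, hy, fun a ha => commute_of_isPGroup hD hE hd hQ.isPGroup hs (hsQ (mem_zpowers s))
    (hE.conj a (hAE a ha) y) (conj_smul_le_iff.1 hyA a ha).1⟩

end two

/-! ### Four-groups -/

/-- A four-group all of whose elements lie in `D`. -/
structure Four (D : Set G) (A : Subgroup G) : Prop where
  subset : ∀ a ∈ A, a ∈ D
  comm : ∀ a ∈ A, ∀ b ∈ A, Commute a b
  sq : ∀ a ∈ A, a * a = 1
  card : Nat.card A = 4

namespace Four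

variable {D : Set G} {A : Subgroup G} (h : Four D A)
include h

theorem isMulCommutative : IsMulCommutative A :=
  ⟨⟨fun a b => Subtype.ext (h.comm a a.2 b b.2).eq⟩⟩

theorem isElementaryAbelian : IsElementaryAbelian 2 A :=
  ⟨h.isMulCommutative, fun a ha => by rw [pow_two]; exact h.sq a ha⟩

theorem isPGroup : IsPGroup 2 A := IsPGroup.of_card (n := 2) (by rw [h.card]; rfl)

theorem ord2 {a : G} (ha : a ∈ A) (ha1 : a ≠ 1) : orderOf a = 2 :=
  CL.SE.ord2_iff.2 ⟨h.sq a ha, ha1⟩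

theorem not_isCyclic : ¬ IsCyclic A := by
  rintro ⟨⟨g, hg⟩⟩
  have h1 : orderOf g = 4 := by rw [orderOf_eq_card_of_forall_mem_zpowers hg, h.card]
  have h2 : g ^ 2 = 1 := Subtype.ext (by rw [pow_two]; exact h.sq g g.2)
  have := orderOf_dvd_of_pow_eq_one h2
  rw [h1] at this
  omega

theorem le_centralizer {a : G} (ha : a ∈ A) : A ≤ centralizer ({a} : Set G) :=
  fun b hb => mem_cent.2 (h.comm b hb a ha)

theorem smul (hD : SC D) (g : G) : Four D (MulAut.conj g • A) where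
  subset a ha := by
    have := hD.conj _ (h.subset _ (mem_conj_smul.1 ha)) g
    simpa [mul_assoc] using this
  comm a ha b hb := by
    have := (h.comm _ (mem_conj_smul.1 ha) _ (mem_conj_smul.1 hb)).map (MulAut.conj g)
    simpa [mul_assoc] using this
  sq a ha := by
    have := congrArg (MulAut.conj g) (h.sq _ (mem_conj_smul.1 ha))
    simpa [mul_assoc] using this
  card := by rw [card_conj_smul, h.card]

/-- An odd order subgroup normalized by a four-group is generated by centralizers. -/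
theorem odd_le [Finite G] {X M : Subgroup G} (hX : (Nat.card X).Coprime 2)
    (hAX : A ≤ normalizer (X : Set G))
    (hM : ∀ a ∈ A, a ≠ 1 → X ⊓ centralizer {a} ≤ M) : X ≤ M := by
  have := h.isMulCommutative
  exact coprime_le_of_not_isCyclic h.not_isCyclic hAX (coprime_of_isPGroup h.isPGroup hX) M hM

end Four

theorem exists_four {D : Set G} (hD : SC D) {s t : G} (hs : s ∈ D) (ht : t ∈ D)
    (hs2 : orderOf s = 2) (ht2 : orderOf t = 2) (hne : s ≠ t) (hc : Commute s t) :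
    ∃ A : Subgroup G, Four D A ∧ s ∈ A ∧ t ∈ A ∧ ∀ H : Subgroup G, s ∈ H → t ∈ H → A ≤ H := by
  have hss := CL.SE.ord2_mul_self hs2
  have htt := CL.SE.ord2_mul_self ht2
  have hs1 := CL.SE.ord2_ne_one hs2
  have ht1 := CL.SE.ord2_ne_one ht2
  have hts : t * s = s * t := hc.symm.eq
  have e1 : s * (s * t) = t := by rw [← mul_assoc, hss, one_mul]
  have e2 : t * (s * t) = s := by rw [← mul_assoc, hts, mul_assoc, htt, mul_one]
  have e3 : s * t * s = t := by rw [mul_assoc, hts, e1]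
  have e4 : s * t * t = s := by rw [mul_assoc, htt, mul_one]
  have e5 : s * t * (s * t) = 1 := by rw [mul_assoc, e2, hss]
  have hmul : ∀ a ∈ ({1, s, t, s * t} : Set G), ∀ b ∈ ({1, s, t, s * t} : Set G),
      a * b ∈ ({1, s, t, s * t} : Set G) ∧ Commute a b := by
    intro a ha b hb
    simp only [Set.mem_insert_iff, Set.mem_singleton_iff] at ha hb ⊢
    rcases ha with rfl | rfl | rfl | rfl <;> rcases hb with rfl | rfl | rfl | rfl <;>
      simp [Commute, SemiconjBy, hss, htt, hts, e1, e2, e3, e4, e5]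
  have hsq : ∀ a ∈ ({1, s, t, s * t} : Set G), a * a = 1 := by
    intro a ha
    simp only [Set.mem_insert_iff, Set.mem_singleton_iff] at ha
    rcases ha with rfl | rfl | rfl | rfl <;> simp [hss, htt, e5]
  let A : Subgroup G :=
    { carrier := {1, s, t, s * t}
      one_mem' := by simp
      mul_mem' := fun {a b} ha hb => (hmul a ha b hb).1
      inv_mem' := fun {a} ha => by
        rw [inv_eq_of_mul_eq_one_right (hsq a ha)]; exact ha }
  have hA : ∀ a, a ∈ A ↔ a = 1 ∨ a = s ∨ a = t ∨ a = s * t := fun a => by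
    change a ∈ ({1, s, t, s * t} : Set G) ↔ _
    simp
  refine ⟨A, ⟨fun a ha => ?_, fun a ha b hb => (hmul a ha b hb).2, hsq, ?_⟩, by simp [hA],
    by simp [hA], fun H h1 h2 a ha => ?_⟩
  · rcases (hA a).1 ha with rfl | rfl | rfl | rfl
    exacts [hD.one_mem, hs, ht, hD.mul_of_commute hs ht hc]
  · change Nat.card ({1, s, t, s * t} : Set G) = 4
    have n1 : s * t ≠ 1 := fun e => hne (by rw [← e4, e, one_mul])
    have n2 : s * t ≠ s := fun e => ht1 (by simpa using e)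
    have n3 : s * t ≠ t := fun e => hs1 (by simpa using e)
    rw [Nat.card_coe_set_eq, Set.ncard_insert_of_notMem (by simp [hs1.symm, ht1.symm, n1.symm]),
      Set.ncard_insert_of_notMem (by simp [hne, n2.symm]), Set.ncard_pair n3.symm]
  · rcases (hA a).1 ha with rfl | rfl | rfl | rfl
    exacts [H.one_mem, h1, h2, H.mul_mem h1 h2]

/-! ### Dihedral groups -/

theorem dihedral_cases {x y : G} (hx : x * x = 1) (hy : y * y = 1) (k : ℕ) :
    (∃ c : G, (x * y) ^ k * y = c * y * c⁻¹) ∨ ∃ c : G, x * (x * y) ^ k = c * y * c⁻¹ := by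
  have hinv : ∀ j : ℕ, y * ((x * y) ^ j)⁻¹ = (x * y) ^ j * y := by
    intro j
    have h1 : y * (x * y)⁻¹ * y⁻¹ = x * y := by
      rw [mul_inv_rev, inv_eq_of_mul_eq_one_right hx, inv_eq_of_mul_eq_one_right hy, ← mul_assoc,
        hy, one_mul]
    have h2 : y * ((x * y) ^ j)⁻¹ * y⁻¹ = (x * y) ^ j := by
      rw [← inv_pow, ← conj_pow, h1]
    rw [← h2, inv_mul_cancel_right, h2]
  rcases Nat.even_or_odd' k with ⟨j, rfl | rfl⟩
  · refine Or.inl ⟨(x * y) ^ j, ?_⟩
    rw [mul_assoc ((x * y) ^ j), hinv, ← mul_assoc, ← pow_add, two_mul]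
  · refine Or.inr ⟨((x * y) ^ j)⁻¹, ?_⟩
    have h3 : ((x * y) ^ j)⁻¹ * y = y * (x * y) ^ j := by
      have := congrArg Inv.inv (hinv j)
      rw [mul_inv_rev, mul_inv_rev, inv_inv, inv_eq_of_mul_eq_one_right hy] at this
      have h4 : y * ((x * y) ^ j * y) * y = y * (y * ((x * y) ^ j)⁻¹) * y := by rw [this]
      rw [mul_assoc, mul_assoc, hy, mul_one, ← mul_assoc y y, hy, one_mul] at h4
      exact h4.symm
    rw [h3, inv_inv, pow_succ', ← mul_assoc, ← mul_assoc x x, hx, one_mul, mul_assoc, ← pow_add,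
      two_mul]

/-! ### The basic core lemma -/

section core
variable [Finite G] {C K A X : Subgroup G}

omit [Finite G] in
theorem mem_sup_ppCore {K C : Subgroup G} (hKC : K ≤ C) {x : G} :
    x ∈ K ⊔ ppCore 2 C ↔ ∃ o ∈ ppCore 2 C, ∃ k ∈ K, o * k = x := by
  rw [sup_comm]
  have hn : K ≤ normalizer ((ppCore 2 C : Subgroup G) : Set G) := hKC.trans (le_normalizer_ppCore C)
  rw [← SetLike.mem_coe, coe_mul_of_right_le_normalizer_left _ _ hn]
  exact Set.mem_mul

theorem core_lemma (hKC : K ≤ C) (hCK : C ≤ normalizer (K : Set G)) (hA : IsPGroup 2 A)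
    (hAC : A ≤ C) (hKA : ∀ k ∈ K, ∀ a ∈ A, a * k * a⁻¹ * k⁻¹ ∈ ppCore 2 C)
    (hX : (Nat.card X).Coprime 2) (hXC : X ≤ C)
    (hN : C ⊓ centralizer (A : Set G) ≤ normalizer (X : Set G)) :
    X ⊓ (K ⊔ ppCore 2 C) ≤ ppCore 2 C ∧ ∀ x ∈ X, ∀ k ∈ K, x * k * x⁻¹ * k⁻¹ ∈ ppCore 2 C := by
  set O := ppCore 2 C with hO
  have hCO : C ≤ normalizer (O : Set G) := le_normalizer_ppCore C
  have hOC : O ≤ C := ppCore_le C
  have hK'C : K ⊔ O ≤ C := sup_le hKC hOC
  have hCK' : C ≤ normalizer ((K ⊔ O : Subgroup G) : Set G) :=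
    (le_inf hCK hCO).trans (normalizer_inf_le_normalizer_sup K O)
  have hdec : ∀ k ∈ K ⊔ O, ∃ o ∈ O, ∃ c ∈ (K ⊔ O) ⊓ centralizer (A : Set G), k = o * c := by
    intro k hk
    refine coprime_fixed_mod (hAC.trans hCO) (coprime_of_isPGroup hA (coprime_card_ppCore C))
      (Or.inl (isSolvable_of_isPGroup hA)) le_sup_right hk fun a ha => ?_
    obtain ⟨o, ho, k, hk', rfl⟩ := (mem_sup_ppCore hKC).1 hk
    have e : a * (o * k) * a⁻¹ * (o * k)⁻¹ = (a * o * a⁻¹) * (a * k * a⁻¹ * k⁻¹) * o⁻¹ := by group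
    rw [e]
    exact mul_mem (mul_mem (conj_mem_of_normalizer (hCO (hAC ha)) ho) (hKA k hk' a ha)) (inv_mem ho)
  have h1 : X ⊓ (K ⊔ O) ≤ O := by
    have hle : X ⊓ (K ⊔ O) ⊔ O ≤ K ⊔ O := sup_le inf_le_right le_sup_right
    have : X ⊓ (K ⊔ O) ⊔ O ≤ ppCore 2 (K ⊔ O) := by
      refine le_ppCore hle (fun k hk => ?_) (coprime_card_sup_of_le_normalizer
        (inf_le_left.trans (hXC.trans hCO)) (PComp.coprime_card_of_le inf_le_left hX)
        (coprime_card_ppCore C))
      obtain ⟨o, ho, c, hc, rfl⟩ := hdec k hk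
      refine mul_mem (le_normalizer (mem_sup_right ho)) ?_
      refine normalizer_inf_le_normalizer_sup _ _ ⟨normalizer_inf_le_normalizer_inf _ _
        ⟨hN ⟨hK'C hc.1, hc.2⟩, le_normalizer hc.1⟩, hCO (hK'C hc.1)⟩
    exact le_sup_left.trans (this.trans (ppCore_le_ppCore_of_le_normalizer hK'C hCK'))
  refine ⟨h1, fun x hx k hk => ?_⟩
  obtain ⟨o, ho, c, hc, rfl⟩ := hdec k (mem_sup_left hk)
  have e : x * (o * c) * x⁻¹ * (o * c)⁻¹ = (x * o * x⁻¹) * (x * c * x⁻¹ * c⁻¹) * o⁻¹ := by group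
  rw [e]
  refine mul_mem (mul_mem (conj_mem_of_normalizer (hCO (hXC hx)) ho) (h1 ⟨?_, ?_⟩)) (inv_mem ho)
  · have := conj_mem_of_normalizer (hN ⟨hK'C hc.1, hc.2⟩) (inv_mem hx)
    simpa [mul_assoc] using mul_mem hx this
  · exact mul_mem (conj_mem_of_normalizer (hCK' (hXC hx)) hc.1) ((K ⊔ O).inv_mem hc.1)

/-- The elements of `C` centralizing `K` modulo `O(C)`. -/
def cmod (C K : Subgroup G) : Subgroup G where
  carrier := {x | x ∈ C ∧ ∀ k ∈ K, x * k * x⁻¹ * k⁻¹ ∈ ppCore 2 C}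
  one_mem' := ⟨C.one_mem, fun k _ => by simp⟩
  mul_mem' := by
    rintro x y ⟨hx, hx'⟩ ⟨hy, hy'⟩
    refine ⟨mul_mem hx hy, fun k hk => ?_⟩
    have e : x * y * k * (x * y)⁻¹ * k⁻¹ =
        (x * (y * k * y⁻¹ * k⁻¹) * x⁻¹) * (x * k * x⁻¹ * k⁻¹) := by group
    rw [e]
    exact mul_mem (conj_mem_of_normalizer (le_normalizer_ppCore C hx) (hy' k hk)) (hx' k hk)
  inv_mem' := by
    rintro x ⟨hx, hx'⟩
    refine ⟨inv_mem hx, fun k hk => ?_⟩
    have e : x⁻¹ * k * x⁻¹⁻¹ * k⁻¹ = x⁻¹ * (x * k * x⁻¹ * k⁻¹)⁻¹ * x := by group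
    rw [e]
    exact conj_mem_of_normalizer' (le_normalizer_ppCore C hx) (inv_mem (hx' k hk))

omit [Finite G] in
theorem mem_cmod {x : G} :
    x ∈ cmod C K ↔ x ∈ C ∧ ∀ k ∈ K, x * k * x⁻¹ * k⁻¹ ∈ ppCore 2 C := Iff.rfl

omit [Finite G] in
theorem cmod_le : cmod C K ≤ C := fun _ h => h.1

theorem le_normalizer_cmod (hCK : C ≤ normalizer (K : Set G)) :
    C ≤ normalizer (cmod C K : Set G) := by
  intro g hg
  refine mem_normalizer_of_conj fun x hx => ⟨mul_mem (mul_mem hg hx.1) (inv_mem hg), fun k hk => ?_⟩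
  have e : g * x * g⁻¹ * k * (g * x * g⁻¹)⁻¹ * k⁻¹ =
      g * (x * (g⁻¹ * k * g) * x⁻¹ * (g⁻¹ * k * g)⁻¹) * g⁻¹ := by group
  rw [e]
  exact conj_mem_of_normalizer (le_normalizer_ppCore C hg)
    (hx.2 _ (conj_mem_of_normalizer' (hCK hg) hk))

omit [Finite G] in
theorem ppCore_le_cmod (hKC : K ≤ C) : ppCore 2 C ≤ cmod C K := fun x hx =>
  ⟨ppCore_le C hx, fun k hk => by
    have := conj_mem_of_normalizer (le_normalizer_ppCore (p := 2) C (hKC hk)) (inv_mem hx)
    simpa [mul_assoc] using mul_mem hx this⟩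

end core

end CL.Gol
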